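import Groth.Agent.LimSch.DescendObj
import Groth.Agent.LimSch.OpenMap
import Groth.Agent.LimSch.DescendsSmooth
import Groth.Agent.LimSch.EventuallyStage

/-!
Models over finitely generated `ℤ`-subalgebras for properties of finitely presented schemes over affine bases.
-/

set_option autoImplicit false
universe u

open CategoryTheory Limits AlgebraicGeometry

namespace Groth.Agent.ModelFG

theorem exists_model {P : MorphismProperty Scheme.{u}} [IsZariskiLocalAtSource P] [IsZariskiLocalAtTarget P]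
    [P.IsStableUnderBaseChange] [P.IsStableUnderComposition]
    (hD : LimSch.DescendsAff.{u} P @LocallyOfFinitePresentation)
    (hoi : ∀ {A B : Scheme.{u}} (j : A ⟶ B), IsOpenImmersion j → P j)
    (A : Type u) [CommRing A] {X : Scheme.{u}} (f : X ⟶ Spec (CommRingCat.of A))
    [LocallyOfFinitePresentation f] [QuasiCompact f] [QuasiSeparated f] (hf : P f) :
    ∃ A₀ : Subalgebra ℤ A, A₀.FG ∧
      ∃ (X₀ : Scheme.{u}) (f₀ : X₀ ⟶ Spec (CommRingCat.of ↥A₀)) (g : X ⟶ X₀),
        P f₀ ∧ LocallyOfFinitePresentation f₀ ∧ QuasiCompact f₀ ∧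
          IsPullback g f f₀ (Spec.map (CommRingCat.ofHom (algebraMap (↥A₀) A))) := by
  classical
  let S₀ : Finset A → Subalgebra ℤ A := fun s => Algebra.adjoin ℤ (s : Set A)
  let : Algebra (ULift.{u} ℤ) A := ((Int.castRingHom A).comp ULift.ringEquiv.toRingHom).toAlgebra
  let S : Finset A → Subalgebra (ULift.{u} ℤ) A := fun s =>
    { toSubsemiring := (S₀ s).toSubsemiring
      algebraMap_mem' := fun r => (S₀ s).algebraMap_mem r.down }
  have hS : Monotone S := fun s t hst x hx => Algebra.adjoin_mono (R := ℤ) (Finset.coe_subset.2 hst) hx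
  have hcov : ∀ a : A, ∃ s, a ∈ S s := fun a => ⟨{a}, Algebra.subset_adjoin (R := ℤ) (Finset.mem_singleton_self a)⟩
  let D := LimSch.subalgDiag S hS
  let c := LimSch.subalgCone S hS
  have hc : IsLimit c := LimSch.isLimitSubalgCone S hS hcov
  have := LimSch.isAffineHom_subalgDiag S hS
  have hA : ∀ i, IsAffine (D.obj i) := fun i => by dsimp [D, LimSch.subalgDiag]; infer_instance
  let f' : X ⟶ c.pt := f
  have : LocallyOfFinitePresentation f' := ‹LocallyOfFinitePresentation f›
  have : QuasiCompact f' := ‹QuasiCompact f›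
  have : QuasiSeparated f' := ‹QuasiSeparated f›
  obtain ⟨i, Xi, fi, g, hlfp, hqc, hqs, hpb⟩ := LimSch.exists_model hc f'
  have : CompactSpace Xi := QuasiCompact.compactSpace_of_compactSpace fi
  have : LocallyOfFinitePresentation (fi ≫ 𝟙 (D.obj i)) := by rw [Category.comp_id]; exact hlfp
  obtain ⟨k, φ, hk⟩ := LimSch.exists_stage_of_descendsAff D c hc hD hoi i fi (𝟙 (D.obj i)) f' (𝟙 c.pt)
    (c.π.app i) g (IsPullback.of_vert_isIso ⟨by rw [Category.comp_id, Category.id_comp]⟩) hpb hf
  let Xk := pullback fi (D.map φ)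
  let fk : Xk ⟶ D.obj k := pullback.snd fi (D.map φ)
  let σ : D.obj k ⟶ pullback (𝟙 (D.obj i)) (D.map φ) := pullback.lift (D.map φ) (𝟙 _) (by simp)
  have hσ : σ ≫ pullback.fst (𝟙 (D.obj i)) (D.map φ) = D.map φ := pullback.lift_fst _ _ _
  have hPk : P fk := by
    let τ : Xk ⟶ pullback fi (pullback.fst (𝟙 (D.obj i)) (D.map φ)) :=
      pullback.lift (pullback.fst fi (D.map φ)) (fk ≫ σ) (by rw [Category.assoc, hσ]; exact pullback.condition)
    have h2 : IsPullback τ fk (pullback.snd fi (pullback.fst (𝟙 (D.obj i)) (D.map φ))) σ := by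
      refine IsPullback.of_right ?_ (pullback.lift_snd _ _ _) (IsPullback.of_hasPullback _ _)
      rw [hσ, pullback.lift_fst]
      exact IsPullback.of_hasPullback _ _
    exact MorphismProperty.of_isPullback h2 hk
  let gk : X ⟶ Xk := pullback.lift g (f ≫ c.π.app k) (by
    rw [Category.assoc]; exact hpb.w.trans (congrArg (f' ≫ ·) (c.w φ)).symm)
  refine ⟨S₀ k.unop, ⟨k.unop, rfl⟩, Xk, fk, gk, hPk, MorphismProperty.pullback_snd _ _ hlfp, MorphismProperty.pullback_snd _ _ hqc, ?_⟩
  have h3 : IsPullback gk f fk (c.π.app k) := by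
    refine IsPullback.of_right ?_ (pullback.lift_snd _ _ _) (IsPullback.of_hasPullback fi (D.map φ))
    rw [pullback.lift_fst]
    erw [c.w φ]
    exact hpb
  exact h3

end Groth.Agent.ModelFG
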